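import Cfsg.Prelude.Def_Solvable
import Cfsg.Agent.Lib.Components.Cores
import Cfsg.Prelude.Def_KGroupFacts

/-!
The `p'`-core of the centraliser of an outer automorphism of prime order in an almost simple group.
-/

set_option autoImplicit false

namespace Cfsg.Agent.Lib.Balance

variable {X : Type*} [Group X] [Finite X]

theorem core_coprime (p : ℕ) :
    (Nat.card (Cfsg.pPrimeCore p X)).Coprime p := Components.pPrimeCore_coprime p

omit [Finite X] in
theorem core_normal (p : ℕ) : (Cfsg.pPrimeCore p X).Normal :=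
  Subgroup.sSup_normal _ fun _ hN => hN.1

omit [Finite X] in
theorem le_core {p : ℕ} {N : Subgroup X} (hn : N.Normal) (hc : (Nat.card N).Coprime p) :
    N ≤ Cfsg.pPrimeCore p X := le_sSup ⟨hn, hc⟩

theorem map_core_le {A B : Type*} [Group A] [Group B] {p : ℕ} (e : A ≃* B) :
    (Cfsg.pPrimeCore p A).map e.toMonoidHom ≤ Cfsg.pPrimeCore p B := by
  rw [Subgroup.map_le_iff_le_comap]
  refine sSup_le fun N hN => ?_
  obtain ⟨hn, hc⟩ := hN
  rw [← Subgroup.map_le_iff_le_comap]
  exact le_core (hn.map _ e.surjective)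
    (by rwa [Subgroup.card_map_of_injective e.injective])

omit [Finite X] in
theorem core_ne_bot_congr {p : ℕ} {Y : Type*} [Group Y] (e : X ≃* Y) :
    Cfsg.pPrimeCore p X ≠ ⊥ ↔ Cfsg.pPrimeCore p Y ≠ ⊥ := by
  refine not_congr ⟨fun h => ?_, fun h => ?_⟩
  · have h1 := map_core_le (p := p) e.symm
    rw [h, le_bot_iff] at h1
    exact (Subgroup.map_eq_bot_iff_of_injective _ e.symm.injective).1 h1
  · have h1 := map_core_le (p := p) e
    rw [h, le_bot_iff] at h1
    exact (Subgroup.map_eq_bot_iff_of_injective _ e.injective).1 h1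

/-- The core of a centraliser with a simple normal subgroup of self-centralising type. -/
theorem core_ne_bot_iff {C : Subgroup X} {M T : Subgroup X} {S : X} {p : ℕ} [Fact p.Prime]
    (hS : orderOf S = p) (hMC : M ≤ C) (hMn : ∀ c ∈ C, ∀ z ∈ M, c * z * c⁻¹ ∈ M)
    (hTC : T ≤ C) (hTn : ∀ c ∈ C, ∀ z ∈ T, c * z * c⁻¹ ∈ T) (hT : IsSimpleGroup T) (hM : M ≠ ⊥)
    (hdvd : p ∣ Nat.card M → p ∣ Nat.card T)
    (hcent : ∀ c ∈ C, (∀ t ∈ T, c * t = t * c) → c ∈ Subgroup.zpowers S) :
    Cfsg.pPrimeCore p C ≠ ⊥ ↔ Nat.Coprime p (Nat.card M) := by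
  have hnormal : ∀ N : Subgroup X, N ≤ C → (∀ c ∈ C, ∀ z ∈ N, c * z * c⁻¹ ∈ N) →
      (N.subgroupOf C).Normal := fun N _ h => ⟨fun z hz c => h c c.2 z hz⟩
  have hcard : ∀ N : Subgroup X, N ≤ C → Nat.card (N.subgroupOf C) = Nat.card N := fun N h =>
    Nat.card_congr (Subgroup.subgroupOfEquivOfLe h).toEquiv
  constructor
  · intro hne
    rw [(Fact.out : p.Prime).coprime_iff_not_dvd]
    intro hp
    apply hne
    set N := Cfsg.pPrimeCore p C
    have hNn : N.Normal := core_normal p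
    have hNc : (Nat.card N).Coprime p := core_coprime p
    have hTn' : (T.subgroupOf C).Normal := hnormal T hTC hTn
    have hint : N ⊓ T.subgroupOf C = ⊥ := by
      let ι : T →* C := Subgroup.inclusion hTC
      rcases (hNn.comap ι).eq_bot_or_eq_top with h | h
      · rw [Subgroup.eq_bot_iff_forall]
        rintro ⟨z, hz⟩ ⟨hzN, hzT⟩
        have : (⟨z, hzT⟩ : T) ∈ N.comap ι := hzN
        rw [h, Subgroup.mem_bot] at this
        exact Subtype.ext (congrArg Subtype.val this :)
      · exfalso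
        have hle : T.subgroupOf C ≤ N := fun z hz => by
          have : (⟨z.1, hz⟩ : T) ∈ N.comap ι := h ▸ Subgroup.mem_top _
          exact this
        have h1 := (hcard T hTC) ▸ Subgroup.card_dvd_of_le hle
        exact (Fact.out : p.Prime).one_lt.ne'
          (Nat.dvd_one.1 ((hNc : Nat.gcd _ p = 1) ▸ Nat.dvd_gcd ((hdvd hp).trans h1) dvd_rfl))
    rw [Subgroup.eq_bot_iff_forall]
    intro z hz
    have hzS : (z : X) ∈ Subgroup.zpowers S := hcent z z.2 fun t ht => by
      have hmem : z * ⟨t, hTC ht⟩ * z⁻¹ * (⟨t, hTC ht⟩ : C)⁻¹ ∈ N ⊓ T.subgroupOf C := by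
        refine Subgroup.mem_inf.2 ⟨?_, ?_⟩
        · rw [show z * ⟨t, hTC ht⟩ * z⁻¹ * (⟨t, hTC ht⟩ : C)⁻¹ =
            z * ((⟨t, hTC ht⟩ : C) * z⁻¹ * (⟨t, hTC ht⟩ : C)⁻¹) by group]
          exact mul_mem hz (hNn.conj_mem _ (inv_mem hz) _)
        · exact mul_mem (hTn'.conj_mem ⟨t, hTC ht⟩ ht z) (inv_mem (show (⟨t, hTC ht⟩ : C) ∈ T.subgroupOf C from ht))
      rw [hint, Subgroup.mem_bot, mul_inv_eq_one, mul_inv_eq_iff_eq_mul] at hmem
      exact congrArg Subtype.val hmem
    have h1 : orderOf z ∣ p := by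
      rw [← Subgroup.orderOf_coe, ← hS]
      exact orderOf_dvd_of_mem_zpowers hzS
    have h2 : orderOf z ∣ Nat.card N := by
      rw [← show orderOf (⟨z, hz⟩ : N) = orderOf z from (Subgroup.orderOf_coe (⟨z, hz⟩ : N)).symm]
      exact orderOf_dvd_natCard _
    exact orderOf_eq_one_iff.1 (Nat.dvd_one.1 ((hNc : Nat.gcd _ p = 1) ▸ Nat.dvd_gcd h2 h1))
  · intro hc hbot
    have h := le_core (hnormal M hMC hMn) (by rw [hcard M hMC, Nat.coprime_comm]; exact hc)
    rw [hbot, le_bot_iff, Subgroup.subgroupOf_eq_bot, disjoint_iff, inf_eq_left.2 hMC] at h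
    exact hM h

omit [Finite X] in
/-- Conjugation carries one centraliser to the other. -/
theorem centralizer_conj_equiv (A : Subgroup X) (a x : X) :
    Nonempty (↥(A ⊓ Subgroup.centralizer {x}) ≃*
      ↥(A.map (MulAut.conj a).toMonoidHom ⊓ Subgroup.centralizer {a * x * a⁻¹})) := by
  refine ⟨(MulEquiv.subgroupMap (MulAut.conj a) _).trans (MulEquiv.subgroupCongr ?_)⟩
  refine (Subgroup.map_inf_eq _ _ _ (MulAut.conj a).injective).trans ?_
  congr 1
  ext z
  rw [show (↑(MulAut.conj a) : X →* X) = (MulAut.conj a).toMonoidHom from rfl, Subgroup.mem_map_equiv,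
    MulAut.conj_symm_apply, Subgroup.mem_centralizer_singleton_iff,
    Subgroup.mem_centralizer_singleton_iff]
  constructor
  · intro h
    calc z * (a * x * a⁻¹) = a * (a⁻¹ * z * a * x) * a⁻¹ := by group
      _ = a * (x * (a⁻¹ * z * a)) * a⁻¹ := by rw [h]
      _ = _ := by group
  · intro h
    calc a⁻¹ * z * a * x = a⁻¹ * (z * (a * x * a⁻¹)) * a := by group
      _ = a⁻¹ * (a * x * a⁻¹ * z) * a := by rw [h]
      _ = _ := by group

omit X [Group X] [Finite X] in
/-- The fixed points of an automorphism as inner automorphisms centralising it. -/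
theorem card_inn_inf {T : Type*} [Group T] (hT : Subgroup.center T = ⊥) (x : MulAut T) :
    Nat.card ↥(Cfsg.Inn T ⊓ Subgroup.centralizer {x}) =
      Nat.card ↥(MonoidHom.eqLocus x.toMonoidHom (MonoidHom.id T)) := by
  have hinj : Function.Injective (MulAut.conj : T →* MulAut T) := by
    rw [← MonoidHom.ker_eq_bot_iff, eq_bot_iff, ← hT]
    intro z hz
    refine Subgroup.mem_center_iff.2 fun k => ?_
    have h := DFunLike.congr_fun (hz : MulAut.conj z = 1) k
    exact (mul_inv_eq_iff_eq_mul.1 h).symm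
  have hx : ∀ k : T, x * MulAut.conj k * x⁻¹ = MulAut.conj (x k) := fun k =>
    MulEquiv.ext fun z => by simp
  have heq : (MonoidHom.eqLocus x.toMonoidHom (MonoidHom.id T)).map MulAut.conj =
      Cfsg.Inn T ⊓ Subgroup.centralizer {x} := by
    apply le_antisymm
    · rintro _ ⟨k, hk, rfl⟩
      refine ⟨⟨k, rfl⟩, Subgroup.mem_centralizer_singleton_iff.2 (mul_inv_eq_iff_eq_mul.1 ?_).symm⟩
      rw [hx, show x k = k from hk]
    · rintro _ ⟨⟨k, rfl⟩, hk⟩
      refine ⟨k, hinj ?_, rfl⟩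
      show MulAut.conj (x k) = _
      rw [← hx, ← (Subgroup.mem_centralizer_singleton_iff.1 hk), mul_inv_cancel_right]
      rfl
  rw [← heq, Subgroup.card_map_of_injective hinj]

end Cfsg.Agent.Lib.Balance
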